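import Mathlib
import Cfsg.Agent.H539.Lim.DefsC
import Cfsg.Agent.H481.Lim.Norm

/-!
# S5242, piece C4c: the vertex function in case N (helper521)
-/

set_option autoImplicit false

namespace Cfsg.Agent.H521.Lim

open MulAction Cfsg.Agent.H539.Lim

universe u v w

/-! ### Sums over pairs -/

/-- A fixed point free involution `σ` of `T` such that the sum over each pair is in `S`: the sum over `T` is in `S`. -/
theorem sum_pairs_mem {ι E : Type*} [DecidableEq ι] [AddCommGroup E] (S : AddSubgroup E) (h : ι → E) (σ : ι → ι)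
    (n : ℕ) : ∀ T : Finset ι, T.card = n → (∀ y ∈ T, σ y ∈ T) → (∀ y ∈ T, σ (σ y) = y) → (∀ y ∈ T, σ y ≠ y) →
      (∀ y ∈ T, h y + h (σ y) ∈ S) → ∑ y ∈ T, h y ∈ S := by
  induction n using Nat.strong_induction_on with | _ n ih => ?_
  intro T hT h1 h2 h3 h4
  rcases T.eq_empty_or_nonempty with rfl | ⟨y, hy⟩
  · simp
  have hne := h3 y hy
  have hy' : σ y ∈ T.erase y := Finset.mem_erase.2 ⟨hne, h1 y hy⟩
  rw [← Finset.add_sum_erase T h hy, ← Finset.add_sum_erase (T.erase y) h hy', ← add_assoc]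
  refine S.add_mem (h4 y hy) ?_
  have hmem : ∀ u, u ∈ (T.erase y).erase (σ y) ↔ u ≠ σ y ∧ u ≠ y ∧ u ∈ T := by
    intro u
    rw [Finset.mem_erase, Finset.mem_erase]
  refine ih _ ?_ ((T.erase y).erase (σ y)) rfl ?_ ?_ ?_ ?_
  · rw [← hT]
    exact Finset.card_lt_card (Finset.ssubset_of_subset_of_ssubset (Finset.erase_subset _ _)
      (Finset.erase_ssubset hy))
  · intro u hu
    obtain ⟨e1, e2, e3⟩ := (hmem u).1 hu
    refine (hmem _).2 ⟨?_, ?_, h1 u e3⟩
    · intro h0
      apply e2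
      rw [← h2 u e3, h0, h2 y hy]
    · intro h0
      apply e1
      rw [← h2 u e3, h0]
  · intro u hu
    exact h2 u ((hmem u).1 hu).2.2
  · intro u hu
    exact h3 u ((hmem u).1 hu).2.2
  · intro u hu
    exact h4 u ((hmem u).1 hu).2.2

/-- A fixed point free involution `σ` of `T` such that the sum over each pair is `k`. -/
theorem sum_pairs_const {ι E : Type*} [DecidableEq ι] [AddCommGroup E] (k : E) (h : ι → E) (σ : ι → ι)
    (n : ℕ) : ∀ T : Finset ι, T.card = n → (∀ y ∈ T, σ y ∈ T) → (∀ y ∈ T, σ (σ y) = y) → (∀ y ∈ T, σ y ≠ y) →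
      (∀ y ∈ T, h y + h (σ y) = k) → ∃ m : ℕ, T.card = 2 * m ∧ ∑ y ∈ T, h y = m • k := by
  induction n using Nat.strong_induction_on with | _ n ih => ?_
  intro T hT h1 h2 h3 h4
  rcases T.eq_empty_or_nonempty with rfl | ⟨y, hy⟩
  · exact ⟨0, by simp, by simp⟩
  have hne := h3 y hy
  have hy' : σ y ∈ T.erase y := Finset.mem_erase.2 ⟨hne, h1 y hy⟩
  have hmem : ∀ u, u ∈ (T.erase y).erase (σ y) ↔ u ≠ σ y ∧ u ≠ y ∧ u ∈ T := by
    intro u
    rw [Finset.mem_erase, Finset.mem_erase]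
  obtain ⟨m, hm, hm'⟩ := ih ((T.erase y).erase (σ y)).card (by
      rw [← hT]
      exact Finset.card_lt_card (Finset.ssubset_of_subset_of_ssubset (Finset.erase_subset _ _)
        (Finset.erase_ssubset hy))) ((T.erase y).erase (σ y)) rfl
    (by
      intro u hu
      obtain ⟨e1, e2, e3⟩ := (hmem u).1 hu
      refine (hmem _).2 ⟨?_, ?_, h1 u e3⟩
      · intro h0
        apply e2
        rw [← h2 u e3, h0, h2 y hy]
      · intro h0
        apply e1
        rw [← h2 u e3, h0])
    (fun u hu => h2 u ((hmem u).1 hu).2.2) (fun u hu => h3 u ((hmem u).1 hu).2.2)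
    (fun u hu => h4 u ((hmem u).1 hu).2.2)
  refine ⟨m + 1, ?_, ?_⟩
  · have c1 := Finset.card_erase_add_one hy
    have c2 := Finset.card_erase_add_one hy'
    omega
  · rw [← Finset.add_sum_erase T h hy, ← Finset.add_sum_erase (T.erase y) h hy', ← add_assoc, h4 y hy, hm',
      add_smul, one_smul, add_comm]

/-! ### Transvections -/

variable {G : Type u} [Group G] {D : Type w} [AddCommGroup D] [DistribMulAction G D]

theorem zmod2_cases (t : ZMod 2) : t = 0 ∨ t = 1 := by
  revert t; decide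

/-- the action of a transvection -/
theorem Tv_act {a : G} {f : D →+ ZMod 2} {z : D} (ha : Tv a f z) (d : D) :
    (f d = 0 ∧ a • d = d) ∨ (f d = 1 ∧ a • d = d + z) := by
  have h1 := ha.act d
  rcases zmod2_cases (f d) with h | h
  · left
    rw [h] at h1
    exact ⟨h, by simpa using h1⟩
  · right
    rw [h] at h1
    have h2 : (1 : ZMod 2).val = 1 := rfl
    rw [h2, one_smul] at h1
    exact ⟨h, h1⟩

theorem Tv_sub_mem {a : G} {f : D →+ ZMod 2} {z : D} (ha : Tv a f z) (d : D) :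
    a • d - d = 0 ∨ a • d - d = z := by
  rcases Tv_act ha d with ⟨-, h⟩ | ⟨-, h⟩
  · left; rw [h, sub_self]
  · right; rw [h, add_sub_cancel_left]

theorem Tv_conj {a : G} {f : D →+ ZMod 2} {z : D} (ha : Tv a f z) (g : G) :
    Tv (g * a * g⁻¹) (f.comp (DistribSMul.toAddMonoidHom D g⁻¹)) (g • z) := by
  refine ⟨?_, ?_, ?_, ?_, ?_, ?_, ?_⟩
  · intro h
    apply ha.ne_one
    have : a = g⁻¹ * (g * a * g⁻¹) * g := by group
    rw [this, h]; group
  · have : g * a * g⁻¹ * (g * a * g⁻¹) = g * (a * a) * g⁻¹ := by group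
    rw [this, ha.sq]; group
  · intro h
    apply ha.z_ne
    have : z = g⁻¹ • g • z := by rw [inv_smul_smul]
    rw [this, h, smul_zero]
  · rw [← smul_add, ha.two_z, smul_zero]
  · intro h
    apply ha.f_ne
    ext d
    have := DFunLike.congr_fun h (g • d)
    simpa using this
  · show f (g⁻¹ • g • z) = 0
    rw [inv_smul_smul, ha.fz]
  · intro d
    show (g * a * g⁻¹) • d = d + (f (g⁻¹ • d)).val • g • z
    rw [mul_smul, mul_smul, ha.act (g⁻¹ • d), smul_add, smul_inv_smul, smul_comm]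
    


/-- In a 2-group without two transvections with the same functional, every functional vanishes on every centre. -/
theorem functional_centre {P : Subgroup G} (hP : IsPGroup 2 P)
    (hN : ∀ a ∈ P, ∀ b ∈ P, ∀ (f : D →+ ZMod 2) (z t : D), Tv a f z → Tv b f t → a = b)
    {a b : G} (haP : a ∈ P) (hbP : b ∈ P) {f g : D →+ ZMod 2} {z t : D} (ha : Tv a f z) (hb : Tv b g t) :
    f t = 0 := by
  by_contra hft
  have hft1 : f t = 1 := (zmod2_cases (f t)).resolve_left hft
  have hainv : a⁻¹ = a := inv_eq_of_mul_eq_one_left ha.sq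
  have hbinv : b⁻¹ = b := inv_eq_of_mul_eq_one_left hb.sq
  have h1 := Tv_conj hb a
  have h2 := Tv_conj ha b
  have hPa : a * b * a⁻¹ ∈ P := P.mul_mem (P.mul_mem haP hbP) (P.inv_mem haP)
  have hPb : b * a * b⁻¹ ∈ P := P.mul_mem (P.mul_mem hbP haP) (P.inv_mem hbP)
  have ht2 : a • t = t + z := by
    rcases Tv_act ha t with ⟨h, -⟩ | ⟨-, h⟩
    · exact absurd h hft
    · exact h
  rcases zmod2_cases (g z) with hgz | hgz
  · -- `g (a⁻¹ d) = g d`
    have e1 : g.comp (DistribSMul.toAddMonoidHom D a⁻¹) = g := by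
      ext d
      show g (a⁻¹ • d) = g d
      rw [hainv]
      rcases Tv_act ha d with ⟨-, h⟩ | ⟨-, h⟩
      · rw [h]
      · rw [h, map_add, hgz, add_zero]
    rw [e1] at h1
    have e2 := hN _ hPa _ hbP g _ _ h1 hb
    obtain ⟨d, hd⟩ : ∃ d, g d = 1 := by
      by_contra hcon
      push Not at hcon
      apply hb.f_ne
      ext d
      exact (zmod2_cases (g d)).resolve_right (hcon d)
    have e3 := h1.act d
    rw [e2, hb.act d, hd] at e3
    have h2 : (1 : ZMod 2).val = 1 := rfl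
    rw [h2, one_smul, one_smul, ht2] at e3
    apply ha.z_ne
    have e4 := add_left_cancel e3
    exact (left_eq_add.1 e4)
  · have e1 : g.comp (DistribSMul.toAddMonoidHom D a⁻¹) = f.comp (DistribSMul.toAddMonoidHom D b⁻¹) := by
      ext d
      show g (a⁻¹ • d) = f (b⁻¹ • d)
      rw [hainv, hbinv]
      rcases Tv_act ha d with ⟨h3, h⟩ | ⟨h3, h⟩ <;> rcases Tv_act hb d with ⟨h5, h'⟩ | ⟨h5, h'⟩
      · rw [h, h', h3, h5]
      · rw [h, h', map_add, h3, h5, hft1]; rfl
      · rw [h, h', map_add, h3, h5, hgz]; rfl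
      · rw [h, h', map_add, map_add, h3, h5, hft1, hgz]
    rw [e1] at h1
    have e2 := hN _ hPa _ hPb _ _ _ h1 h2
    rw [hainv, hbinv] at e2
    have e3 : (a * b) ^ 3 = 1 := by
      have : (a * b) ^ 3 = (a * b * a) * (b * a * b) := by
        rw [pow_succ, pow_two]; group
      rw [this, ← e2]
      have : a * b * a * (a * b * a) = a * b * (a * a) * b * a := by group
      rw [this, ha.sq]
      have : a * b * 1 * b * a = a * (b * b) * a := by group
      rw [this, hb.sq, mul_one, ha.sq]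
    obtain ⟨k, hk⟩ := hP ⟨a * b, P.mul_mem haP hbP⟩
    have hk' : (a * b) ^ 2 ^ k = 1 := congrArg Subtype.val hk
    have e4 : orderOf (a * b) ∣ 1 := by
      have h5 : Nat.Coprime 3 (2 ^ k) := Nat.Coprime.pow_right k (by norm_num)
      rw [← Nat.Coprime.gcd_eq_one h5]
      exact Nat.dvd_gcd (orderOf_dvd_of_pow_eq_one e3) (orderOf_dvd_of_pow_eq_one hk')
    have e5 : a * b = 1 := orderOf_eq_one_iff.1 (Nat.dvd_one.1 e4)
    have e6 : a = b := by
      rw [← hbinv]; exact eq_inv_of_mul_eq_one_left e5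
    -- `a t = t + z` and `b t = t`
    rcases Tv_act hb t with ⟨-, h⟩ | ⟨h, -⟩
    · rw [← e6, ht2] at h
      exact ha.z_ne (left_eq_add.1 h.symm)
    · rw [hb.fz] at h
      exact absurd h (by decide)


/-! ### The subgroup generated by the transvections -/

section W

variable {Ω : Type v} [MulAction G Ω]

theorem Wt_le (x : Ω) : Wt G D x ≤ stabilizer G x := by
  rw [Wt, Subgroup.closure_le]
  rintro a ⟨ha, -⟩
  exact ha

theorem mem_Wt {x : Ω} {a : G} (hax : a • x = x) {f : D →+ ZMod 2} {z : D} (ha : Tv a f z) : a ∈ Wt G D x :=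
  Subgroup.subset_closure ⟨hax, f, z, ha⟩

variable {x : Ω} (hP : IsPGroup 2 (stabilizer G x))
  (hfaith : ∀ g ∈ stabilizer G x, (∀ d : D, g • d = d) → g = 1)
  (hN : ∀ a ∈ stabilizer G x, ∀ b ∈ stabilizer G x, ∀ (f : D →+ ZMod 2) (z t : D), Tv a f z → Tv b f t → a = b)

include hP hN in
theorem fix_sub {w : G} (hw : w ∈ Wt G D x) : ∀ a ∈ stabilizer G x, ∀ (f : D →+ ZMod 2) (z : D), Tv a f z →
    ∀ d : D, a • (w • d - d) = w • d - d := by
  rw [Wt] at hw
  induction hw using Subgroup.closure_induction with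
  | mem b hb =>
    obtain ⟨hbx, g, t, hb⟩ := hb
    intro a hax f z ha d
    rcases Tv_sub_mem hb d with h | h
    · rw [h, smul_zero]
    · rw [h]
      rcases Tv_act ha t with ⟨-, h1⟩ | ⟨h1, -⟩
      · exact h1
      · rw [functional_centre hP hN hax hbx ha hb] at h1
        exact absurd h1 (by decide)
  | one => intro a _ f z _ d; simp
  | mul u v _ _ ih1 ih2 =>
    intro a hax f z ha d
    have : (u * v) • d - d = (u • (v • d) - v • d) + (v • d - d) := by rw [mul_smul]; abel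
    rw [this, smul_add, ih1 a hax f z ha, ih2 a hax f z ha]
  | inv u _ ih =>
    intro a hax f z ha d
    have : u⁻¹ • d - d = -(u • (u⁻¹ • d) - u⁻¹ • d) := by rw [smul_inv_smul]; abel
    rw [this, smul_neg, ih a hax f z ha]

include hP hN in
theorem fix_sub' {w w' : G} (hw : w ∈ Wt G D x) (hw' : w' ∈ Wt G D x) (d : D) :
    w' • (w • d - d) = w • d - d := by
  have : Wt G D x ≤ stabilizer G (w • d - d) := by
    conv_lhs => rw [Wt]
    rw [Subgroup.closure_le]
    rintro a ⟨hax, f, z, ha⟩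
    exact fix_sub hP hN hw a hax f z ha d
  exact this hw'

include hP hfaith hN in
theorem W_comm {w w' : G} (hw : w ∈ Wt G D x) (hw' : w' ∈ Wt G D x) : w * w' = w' * w := by
  have h1 : ∀ {w w' : G}, w ∈ Wt G D x → w' ∈ Wt G D x → ∀ d : D, (w * w') • d = (w' • d - d) + w • d := by
    intro w w' hw hw' d
    rw [mul_smul]
    have : w' • d = (w' • d - d) + d := by abel
    conv_lhs => rw [this, smul_add, fix_sub' hP hN hw' hw]
  have h2 : (w * w') * (w' * w)⁻¹ = 1 := by
    apply hfaith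
    · exact Wt_le x ((Wt G D x).mul_mem ((Wt G D x).mul_mem hw hw')
        ((Wt G D x).inv_mem ((Wt G D x).mul_mem hw' hw)))
    · intro d
      rw [mul_smul]
      have h3 : (w * w') • (w' * w)⁻¹ • d = (w' * w) • (w' * w)⁻¹ • d := by
        rw [h1 hw hw', h1 hw' hw]; abel
      rw [h3, smul_inv_smul]
  exact mul_inv_eq_one.1 h2

theorem relIndex_eq_ncard (W : Subgroup G) (y : Ω) :
    (stabilizer G y).relIndex W = (orbit W y).ncard := by
  rw [← MulAction.index_stabilizer, Subgroup.relIndex]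
  congr 1

include hP hfaith hN in
/-- The sum over a `W`-invariant set of points whose `W`-orbits have more than two elements. -/
theorem sum_large [Finite G] {Ω₀ : Finset Ω} {c : Ω → Ω → D} (hc : ∀ (g : G) x y, c (g • x) (g • y) = g • c x y)
    (h2 : ∀ y ∈ Ω₀, 2 • c x y = 0) (n : ℕ) : ∀ Z : Finset Ω, Z.card = n → Z ⊆ Ω₀ →
      (∀ w ∈ Wt G D x, ∀ y ∈ Z, w • y ∈ Z) → (∀ y ∈ Z, 2 < (stabilizer G y).relIndex (Wt G D x)) →
      ∑ y ∈ Z, c x y = 0 := by
  classical
  induction n using Nat.strong_induction_on with | _ n ih => ?_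
  intro Z hZ hZ0 hinv hrel
  rcases Z.eq_empty_or_nonempty with rfl | ⟨y, hy⟩
  · simp
  set O : Finset Ω := Z.filter (fun y' => y' ∈ orbit (Wt G D x) y) with hO
  have hsplit : ∑ y' ∈ Z, c x y' = ∑ y' ∈ O, c x y' +
      ∑ y' ∈ Z.filter (fun y' => ¬ y' ∈ orbit (Wt G D x) y), c x y' :=
    (Finset.sum_filter_add_sum_filter_not _ _ _).symm
  have hrest : ∑ y' ∈ Z.filter (fun y' => ¬ y' ∈ orbit (Wt G D x) y), c x y' = 0 := by
    refine ih (Z.filter (fun y' => ¬ y' ∈ orbit (Wt G D x) y)).card ?_ _ rfl ?_ ?_ ?_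
    · rw [← hZ]
      refine Finset.card_lt_card (Finset.filter_ssubset.2 ⟨y, hy, ?_⟩)
      simp
    · exact (Finset.filter_subset _ _).trans hZ0
    · intro w hw y' hy'
      rw [Finset.mem_filter] at hy' ⊢
      refine ⟨hinv w hw y' hy'.1, fun h => hy'.2 ?_⟩
      obtain ⟨v, hv⟩ := h
      refine ⟨⟨w, hw⟩⁻¹ * v, ?_⟩
      have hv' : (v : G) • y = w • y' := hv
      show (w⁻¹ * (v : G)) • y = y'
      rw [mul_smul, hv', inv_smul_smul]
    · intro y' hy'
      exact hrel y' (Finset.mem_filter.1 hy').1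
  rw [hsplit, hrest, add_zero]
  -- a transvection not fixing `y`
  obtain ⟨a, hax, f, z, ha, hay⟩ : ∃ a ∈ stabilizer G x, ∃ (f : D →+ ZMod 2) (z : D), Tv a f z ∧ a • y ≠ y := by
    by_contra hcon
    push Not at hcon
    have : Wt G D x ≤ stabilizer G y := by
      rw [Wt, Subgroup.closure_le]
      rintro a ⟨hax, f, z, ha⟩
      exact hcon a hax f z ha
    have h1 := hrel y hy
    rw [Subgroup.relIndex_eq_one.2 this] at h1
    omega
  have haW : a ∈ Wt G D x := mem_Wt hax ha
  have hval : ∀ w ∈ Wt G D x, c x (w • y) = w • c x y := by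
    intro w hw
    have h1 := hc w x y
    have h3 : w • x = x := Wt_le x hw
    rwa [h3] at h1
  obtain ⟨m, hm, hs⟩ := sum_pairs_const (a • c x y - c x y) (fun y' => c x y') (fun y' => a • y') O.card O rfl
    (by
      intro y' hy'
      rw [hO, Finset.mem_filter] at hy' ⊢
      obtain ⟨hy1, v, hv⟩ := hy'
      refine ⟨hinv a haW y' hy1, ⟨a, haW⟩ * v, ?_⟩
      have hv' : (v : G) • y = y' := hv
      show (a * (v : G)) • y = a • y'
      rw [mul_smul, hv'])
    (by
      intro y' _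
      show a • a • y' = y'
      rw [← mul_smul, ha.sq, one_smul])
    (by
      intro y' hy' h0
      obtain ⟨hy1, v, hv⟩ := Finset.mem_filter.1 hy'
      have hv' : (v : G) • y = y' := hv
      have h0' : a • y' = y' := h0
      apply hay
      rw [← hv', ← mul_smul, W_comm hP hfaith hN haW v.2, mul_smul] at h0'
      exact smul_left_cancel _ h0')
    (by
      intro y' hy'
      obtain ⟨hy1, v, hv⟩ := Finset.mem_filter.1 hy'
      have hv' : (v : G) • y = y' := hv
      show c x y' + c x (a • y') = a • c x y - c x y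
      rw [← hv', ← mul_smul, hval _ ((Wt G D x).mul_mem haW v.2), hval _ v.2, W_comm hP hfaith hN haW v.2,
        mul_smul, ← smul_add]
      have h3 : c x y + a • c x y = a • c x y - c x y := by
        have h4 := h2 y (hZ0 hy)
        rw [two_smul] at h4
        have h5 : c x y = - c x y := eq_neg_of_add_eq_zero_left h4
        conv_lhs => rw [h5]
        rw [← h5]
        rw [sub_eq_add_neg, ← h5, add_comm]
      rw [h3]
      exact fix_sub' hP hN haW v.2 _)
  rw [hs]
  have hcard : O.card = (stabilizer G y).relIndex (Wt G D x) := by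
    rw [relIndex_eq_ncard, ← Set.ncard_coe_finset]
    congr 1
    ext y'
    rw [hO, Finset.coe_filter, Set.mem_ofPred_eq]
    constructor
    · exact fun h => h.2
    · intro h
      refine ⟨?_, h⟩
      obtain ⟨v, hv⟩ := h
      have hv' : (v : G) • y = y' := hv
      rw [← hv']
      exact hinv v v.2 y hy
  have hlt := hrel y hy
  rw [← hcard] at hlt
  have hW2 : IsPGroup 2 (Wt G D x) := hP.to_le (Wt_le x)
  obtain ⟨k, hk⟩ := IsPGroup.iff_card.1 hW2
  have hdvd : O.card ∣ 2 ^ k := by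
    rw [hcard, ← hk]
    exact Subgroup.relIndex_dvd_card _ _
  obtain ⟨j, -, hj⟩ := (Nat.dvd_prime_pow Nat.prime_two).1 hdvd
  have hj2 : 2 ≤ j := by
    by_contra hcon
    have : j = 0 ∨ j = 1 := by omega
    rcases this with rfl | rfl <;> · rw [hj] at hlt; norm_num at hlt
  have hm2 : 2 ∣ m := by
    obtain ⟨i, rfl⟩ := Nat.exists_eq_add_of_le hj2
    rw [hj, pow_add] at hm
    exact ⟨2 ^ i, by omega⟩
  obtain ⟨m', rfl⟩ := hm2
  rw [mul_smul, smul_comm]
  have : 2 • (a • c x y - c x y) = 0 := by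
    rw [two_smul]
    rcases Tv_sub_mem ha (c x y) with h | h
    · rw [h, add_zero]
    · rw [h, ha.two_z]
  rw [this, smul_zero]

theorem conj_mem_Wt {x : Ω} {g w : G} (hg : g ∈ stabilizer G x) (hw : w ∈ Wt G D x) :
    g * w * g⁻¹ ∈ Wt G D x := by
  have : Wt G D x ≤ (Wt G D x).comap (MulAut.conj g).toMonoidHom := by
    conv_lhs => rw [Wt]
    rw [Subgroup.closure_le]
    rintro a ⟨hax, f, z, ha⟩
    show g * a * g⁻¹ ∈ Wt G D x
    exact mem_Wt ((stabilizer G x).mul_mem ((stabilizer G x).mul_mem hg hax) ((stabilizer G x).inv_mem hg))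
      (Tv_conj ha g)
  exact this hw

/-- `|W : W ∩ G_y|` is invariant under the elements of `G_x`. -/
theorem relIndex_smul {x : Ω} {g : G} (hg : g ∈ stabilizer G x) (y : Ω) :
    (stabilizer G (g • y)).relIndex (Wt G D x) = (stabilizer G y).relIndex (Wt G D x) := by
  have h1 : (Wt G D x).map (MulAut.conj g).toMonoidHom = Wt G D x := by
    apply le_antisymm
    · rintro _ ⟨w, hw, rfl⟩
      exact conj_mem_Wt hg hw
    · intro w hw
      refine ⟨g⁻¹ * w * g, ?_, ?_⟩
      · have := conj_mem_Wt ((stabilizer G x).inv_mem hg) hw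
        rwa [inv_inv] at this
      · show g * (g⁻¹ * w * g) * g⁻¹ = w
        group
  have h2 : stabilizer G (g • y) = (stabilizer G y).map (MulAut.conj g).toMonoidHom :=
    MulAction.stabilizer_smul_eq_stabilizer_map_conj g y
  conv_lhs => rw [h2, ← h1]
  exact Subgroup.relIndex_map_map_of_injective _ _ (MulAut.conj g).injective

/-- **S5242, C4c, first part.** -/
theorem caseN_left [Finite G] {Ω₀ : Finset Ω} (h0 : Orb2 G Ω₀) {c : Ω → Ω → D} (hc : Coc2 G Ω₀ c)
    (h2 : ∀ x ∈ Ω₀, ∀ y ∈ Ω₀, 2 • c x y = 0)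
    (hfaith : ∀ x ∈ Ω₀, ∀ g ∈ stabilizer G x, (∀ d : D, g • d = d) → g = 1)
    {x : Ω} (hx : x ∈ Ω₀)
    (hN : ∀ a ∈ stabilizer G x, ∀ b ∈ stabilizer G x, ∀ (f : D →+ ZMod 2) (z t : D), Tv a f z → Tv b f t → a = b) :
    ∀ a ∈ stabilizer G x, ∀ (f : D →+ ZMod 2) (z : D), Tv a f z →
      Vv Ω₀ c a x + vN G Ω₀ c x = 0 ∨ Vv Ω₀ c a x + vN G Ω₀ c x = z := by
  classical
  intro a hax f z ha
  have hP : IsPGroup 2 (stabilizer G x) := by
    obtain ⟨S, hS⟩ := h0.sylow x hx
    rw [← hS]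
    exact S.2
  have haW : a ∈ Wt G D x := mem_Wt hax ha
  have haΩ : ∀ y : Ω, a • a • y = y := fun y => by rw [← mul_smul, ha.sq, one_smul]
  -- the part of `V_a(x)` with large orbits vanishes
  have e1 : Vv Ω₀ c a x = ∑ y ∈ (Ω₀.filter (fun y => (stabilizer G y).relIndex (Wt G D x) ≤ 2)).filter
      (fun y => a • y = y), c x y := by
    rw [Vv, ← Finset.sum_filter_add_sum_filter_not (Ω₀.filter (fun y => a • y = y))
      (fun y => (stabilizer G y).relIndex (Wt G D x) ≤ 2)]
    have h3 : ∑ y ∈ (Ω₀.filter (fun y => a • y = y)).filter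
        (fun y => ¬ (stabilizer G y).relIndex (Wt G D x) ≤ 2), c x y = 0 := by
      refine sum_large hP (hfaith x hx) hN hc.equiv (h2 x hx) _ _ rfl ?_ ?_ ?_
      · exact (Finset.filter_subset _ _).trans (Finset.filter_subset _ _)
      · intro w hw y hy
        rw [Finset.mem_filter, Finset.mem_filter] at hy ⊢
        refine ⟨⟨h0.smul_mem w y hy.1.1, ?_⟩, ?_⟩
        · rw [← mul_smul, W_comm hP (hfaith x hx) hN haW hw, mul_smul, hy.1.2]
        · rw [relIndex_smul (Wt_le x hw)]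
          exact hy.2
      · intro y hy
        exact not_le.1 (Finset.mem_filter.1 hy).2
    rw [h3, add_zero, Finset.filter_comm]
  have e2 : vN G Ω₀ c x = ∑ y ∈ (Ω₀.filter (fun y => (stabilizer G y).relIndex (Wt G D x) ≤ 2)).filter
      (fun y => a • y = y), c x y + ∑ y ∈ (Ω₀.filter (fun y =>
        (stabilizer G y).relIndex (Wt G D x) ≤ 2)).filter (fun y => ¬ a • y = y), c x y := by
    rw [vN, Finset.sum_filter_add_sum_filter_not]
  have e3 : Vv Ω₀ c a x + vN G Ω₀ c x = ∑ y ∈ (Ω₀.filter (fun y =>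
        (stabilizer G y).relIndex (Wt G D x) ≤ 2)).filter (fun y => ¬ a • y = y), c x y := by
    rw [e2, e1, ← add_assoc, ← two_smul ℕ, Finset.smul_sum]
    rw [Finset.sum_eq_zero, zero_add]
    intro y hy
    exact h2 x hx y (Finset.filter_subset _ _ (Finset.filter_subset _ _ hy))
  have e4 : Vv Ω₀ c a x + vN G Ω₀ c x ∈ AddSubgroup.zmultiples z := by
    rw [e3]
    refine sum_pairs_mem _ _ (fun y => a • y) _ _ rfl ?_ ?_ ?_ ?_
    · intro y hy
      rw [Finset.mem_filter, Finset.mem_filter] at hy ⊢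
      refine ⟨⟨h0.smul_mem a y hy.1.1, ?_⟩, ?_⟩
      · rw [relIndex_smul hax]
        exact hy.1.2
      · intro h
        exact hy.2 (smul_left_cancel _ h)
    · intro y _
      exact haΩ y
    · intro y hy
      exact (Finset.mem_filter.1 hy).2
    · intro y hy
      have hy0 : y ∈ Ω₀ := Finset.filter_subset _ _ (Finset.filter_subset _ _ hy)
      have h3 : c x (a • y) = a • c x y := by
        have h4 := hc.equiv a x y
        have h5 : a • x = x := hax
        rwa [h5] at h4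
      show c x y + c x (a • y) ∈ _
      rw [h3]
      have h4 := h2 x hx y hy0
      rw [two_smul] at h4
      have h5 : c x y = - c x y := eq_neg_of_add_eq_zero_left h4
      have h6 : c x y + a • c x y = a • c x y - c x y := by
        rw [sub_eq_add_neg, ← h5, add_comm]
      rw [h6]
      rcases Tv_sub_mem ha (c x y) with h | h
      · rw [h]; exact AddSubgroup.zero_mem _
      · rw [h]; exact AddSubgroup.mem_zmultiples z
  obtain ⟨n, hn⟩ := AddSubgroup.mem_zmultiples_iff.1 e4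
  rcases Int.even_or_odd' n with ⟨k, rfl | rfl⟩
  · left
    rw [← hn, mul_comm, mul_smul, two_smul, ha.two_z, smul_zero]
  · right
    rw [← hn, add_smul, mul_comm, mul_smul, two_smul, ha.two_z, smul_zero, zero_add, one_smul]

/-- **S5242, C4c.** -/
theorem caseN [Finite G] {Ω₀ : Finset Ω} (h0 : Orb2 G Ω₀) {c : Ω → Ω → D} (hc : Coc2 G Ω₀ c)
    (h2 : ∀ x ∈ Ω₀, ∀ y ∈ Ω₀, 2 • c x y = 0)
    (hfaith : ∀ x ∈ Ω₀, ∀ g ∈ stabilizer G x, (∀ d : D, g • d = d) → g = 1)
    {x : Ω} (hx : x ∈ Ω₀)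
    (hN : ∀ a ∈ stabilizer G x, ∀ b ∈ stabilizer G x, ∀ (f : D →+ ZMod 2) (z t : D), Tv a f z → Tv b f t → a = b) :
    (∀ a ∈ stabilizer G x, ∀ (f : D →+ ZMod 2) (z : D), Tv a f z →
      Vv Ω₀ c a x + vN G Ω₀ c x = 0 ∨ Vv Ω₀ c a x + vN G Ω₀ c x = z) ∧
    ((∀ x ∈ Ω₀, ∀ y ∈ Ω₀, stabilizer G x ⊓ stabilizer G y ∈ Qs G D → c x y = 0) → stabilizer G x ∈ Qs G D →
      vN G Ω₀ c x = 0) := by
  classical
  refine ⟨caseN_left h0 hc h2 hfaith hx hN, ?_⟩
  rintro hs ⟨A, hA, hA1, hAB, hAg⟩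
  have hP : IsPGroup 2 (stabilizer G x) := by
    obtain ⟨S, hS⟩ := h0.sylow x hx
    rw [← hS]
    exact S.2
  rw [vN, ← Finset.sum_filter_add_sum_filter_not _ (fun y => A ≤ stabilizer G y)]
  have e1 : ∑ y ∈ (Ω₀.filter (fun y => (stabilizer G y).relIndex (Wt G D x) ≤ 2)).filter
      (fun y => A ≤ stabilizer G y), c x y = 0 := by
    refine Finset.sum_eq_zero fun y hy => ?_
    rw [Finset.mem_filter, Finset.mem_filter] at hy
    exact hs x hx y hy.1.1 ⟨A, le_inf hA hy.2, hA1, hAB, hAg⟩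
  have e2 : ∑ y ∈ (Ω₀.filter (fun y => (stabilizer G y).relIndex (Wt G D x) ≤ 2)).filter
      (fun y => ¬ A ≤ stabilizer G y), c x y = 0 := by
    have : Fact (Nat.Prime 2) := ⟨Nat.prime_two⟩
    obtain ⟨m, -, hm⟩ := Cfsg.Agent.H481.Lim.NGood.sum_eq (hP.to_le hA) hAg
      ((Ω₀.filter (fun y => (stabilizer G y).relIndex (Wt G D x) ≤ 2)).filter
        (fun y => ¬ A ≤ stabilizer G y))
      (by
        intro a ha y hy
        rw [Finset.mem_filter, Finset.mem_filter] at hy ⊢
        refine ⟨⟨h0.smul_mem a y hy.1.1, ?_⟩, fun h => hy.2 fun b hb => ?_⟩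
        · rw [relIndex_smul (hA ha)]
          exact hy.1.2
        · have h3 : a * b * a⁻¹ ∈ stabilizer G (a • y) := h (A.mul_mem (A.mul_mem ha hb) (A.inv_mem ha))
          rw [mem_stabilizer_iff, mul_smul, mul_smul, inv_smul_smul] at h3
          exact smul_left_cancel _ h3)
      (by
        intro y hy
        exact (Finset.mem_filter.1 hy).2)
      (fun y => c x y)
      (by
        intro a ha y _
        have h4 := hc.equiv a x y
        have h5 : a • x = x := hA ha
        rwa [h5] at h4)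
      0
      (by
        intro y hy
        exact h2 x hx y (Finset.filter_subset _ _ (Finset.filter_subset _ _ hy)))
      (fun a _ => smul_zero a)
    rw [hm, smul_zero]
  rw [e1, e2, add_zero]

end W

end Cfsg.Agent.H521.Lim
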